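import Cfsg.Agent.H942.S62.Iface

/-!
# S5919, row `Sp₆(2)`, task B2: the involutions commuting with `y0` (helper976)
-/

set_option autoImplicit false

namespace Cfsg.Agent.H976.S62

open Cfsg.Agent.H942.S62

/-- the other basis vector of the first hyperbolic plane -/
def f0 : V6 := Pi.single (Sum.inr 0) 1

/-- a vector of `[V, y0]` -/
def w0 : V6 := Pi.single (Sum.inl 1) 1

/-- `p(y0) v` for `p = c₀ + c₁ X + c₂ X² + c₃ X³` -/
def po (c : Fin 4 → ZMod 2) (v : V6) : V6 :=
  c 0 • v + (c 1 • mv y0 v + (c 2 • mv y0 (mv y0 v) + c 3 • mv y0 (mv y0 (mv y0 v))))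

/-- the trace -/
def tr (v : V6) : V6 := v + (mv y0 v + (mv y0 (mv y0 v) + (mv y0 (mv y0 (mv y0 v)) + mv y0 (mv y0 (mv y0 (mv y0 v))))))

theorem fix_y0 : ∀ v : V6, mv y0 v = v → v = 0 ∨ v = e0 ∨ v = f0 ∨ v = e0 + f0 := by decide +kernel

theorem tr_zero : ∀ v : V6, tr v = 0 → ∃ c : Fin 4 → ZMod 2, v = po c w0 := by decide +kernel

theorem tr_w0 : tr w0 = 0 := by decide +kernel

theorem po_po : ∀ c : Fin 4 → ZMod 2, po c (po c w0) = w0 → po c w0 = w0 := by decide +kernel

/-- the two other involutions -/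
def s1 : Sp2 := ⟨Matrix.fromBlocks !![0, 0, 0; 0, 1, 0; 0, 0, 1] !![1, 0, 0; 0, 0, 0; 0, 0, 0]
  !![1, 0, 0; 0, 0, 0; 0, 0, 0] !![0, 0, 0; 0, 1, 0; 0, 0, 1], SymplecticGroup.mem_iff.2 (by decide +kernel)⟩

def s2 : Sp2 := ⟨Matrix.fromBlocks 1 0 !![1, 0, 0; 0, 0, 0; 0, 0, 0] 1, SymplecticGroup.mem_iff.2 (by decide +kernel)⟩

theorem s1_comm : s1 * y0 = y0 * s1 := by decide +kernel
theorem s2_comm : s2 * y0 = y0 * s2 := by decide +kernel

theorem mv_add (g : Sp2) (v w : V6) : mv g (v + w) = mv g v + mv g w := Matrix.mulVec_add _ _ _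
theorem mv_smul (g : Sp2) (c : ZMod 2) (v : V6) : mv g (c • v) = c • mv g v := Matrix.mulVec_smul _ _ _

/-- an element of `Sp2` is determined by the images of `e0`, `f0`, `w0` if it commutes with `y0` -/
theorem ext_y0 {x z : Sp2} (hx : x * y0 = y0 * x) (hz : z * y0 = y0 * z) (h1 : mv x e0 = mv z e0) (h2 : mv x f0 = mv z f0)
    (h3 : mv x w0 = mv z w0) : x = z := by
  have hcx : ∀ v, mv x (mv y0 v) = mv y0 (mv x v) := fun v => by rw [← mv_mul, hx, mv_mul]
  have hcz : ∀ v, mv z (mv y0 v) = mv y0 (mv z v) := fun v => by rw [← mv_mul, hz, mv_mul]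
  have hall : ∀ v : V6, ∃ (a b : ZMod 2) (c : Fin 4 → ZMod 2), v = a • e0 + (b • f0 + po c w0) := by
    decide +kernel
  have key : ∀ v, mv x v = mv z v := by
    intro v
    obtain ⟨a, b, c, rfl⟩ := hall v
    simp only [po, mv_add, mv_smul, hcx, hcz, h1, h2, h3]
  apply Subtype.ext
  apply Matrix.ext_of_mulVec_single
  intro i
  exact key _

theorem e0_ne : e0 ≠ 0 := by decide +kernel
theorem f0_ne : f0 ≠ 0 := by decide +kernel
theorem ef_ne : e0 + f0 ≠ 0 := by decide +kernel
theorem e_ne_f : e0 ≠ f0 := by decide +kernel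
theorem y0_e0 : mv y0 e0 = e0 := by decide +kernel
theorem y0_f0 : mv y0 f0 = f0 := by decide +kernel

/-- **Task B2** -/
theorem invY0 : InvY0 := by
  intro x hxx hx1 hxy
  have hc : ∀ v, mv x (mv y0 v) = mv y0 (mv x v) := fun v => by rw [← mv_mul, hxy, mv_mul]
  have hx2 : ∀ v, mv x (mv x v) = v := fun v => by rw [← mv_mul, hxx, mv_one]
  have hx0 : mv x 0 = 0 := Matrix.mulVec_zero _
  have hw : mv x w0 = w0 := by
    obtain ⟨c, hc'⟩ := tr_zero (mv x w0) (by
      have h1 : tr (mv x w0) = mv x (tr w0) := by simp only [tr, mv_add, hc]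
      rw [h1, tr_w0, hx0])
    have h2 : mv x (po c w0) = po c (mv x w0) := by simp only [po, mv_add, mv_smul, hc]
    have h := hx2 w0
    rw [hc', h2, hc'] at h
    rw [hc']
    exact po_po c h
  have he := fix_y0 (mv x e0) (by rw [← hc, y0_e0])
  have hf := fix_y0 (mv x f0) (by rw [← hc, y0_f0])
  have hce := hx2 e0
  have hcf := hx2 f0
  rcases he with he | he | he | he
  · rw [he, hx0] at hce
    exact absurd hce.symm e0_ne
  · rcases hf with hf | hf | hf | hf
    · rw [hf, hx0] at hcf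
      exact absurd hcf.symm f0_ne
    · rw [hf, he] at hcf
      exact absurd hcf e_ne_f
    · exact absurd (ext_y0 hxy (by rw [one_mul, mul_one]) (by rw [he, mv_one]) (by rw [hf, mv_one]) (by rw [hw, mv_one])) hx1
    · refine ⟨1, by rw [one_mul, mul_one], ?_⟩
      rw [one_mul, inv_one, mul_one]
      refine ext_y0 hxy (by decide +kernel) ?_ ?_ ?_
      · rw [he]; decide +kernel
      · rw [hf]; decide +kernel
      · rw [hw]; decide +kernel
  · rcases hf with hf | hf | hf | hf
    · rw [hf, hx0] at hcf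
      exact absurd hcf.symm f0_ne
    · refine ⟨s2, s2_comm, ?_⟩
      refine ext_y0 hxy (by decide +kernel) ?_ ?_ ?_
      · rw [he]; decide +kernel
      · rw [hf]; decide +kernel
      · rw [hw]; decide +kernel
    · rw [he, hf] at hce
      exact absurd hce.symm e_ne_f
    · rw [he, hf] at hce
      exact absurd hce (by decide +kernel)
  · rcases hf with hf | hf | hf | hf
    · rw [hf, hx0] at hcf
      exact absurd hcf.symm f0_ne
    · rw [hf, he] at hcf
      exact absurd hcf (by decide +kernel)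
    · refine ⟨s1, s1_comm, ?_⟩
      refine ext_y0 hxy (by decide +kernel) ?_ ?_ ?_
      · rw [he]; decide +kernel
      · rw [hf]; decide +kernel
      · rw [hw]; decide +kernel
    · rw [he, mv_add, he, hf] at hce
      exact absurd hce (by decide +kernel)

end Cfsg.Agent.H976.S62
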